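import Mathlib
import Groth.Agent.GenericFree.Presentation

/-!
Generic specialisation of "no nonzero element is killed by all `g j`".
-/

set_option autoImplicit false
universe u

open TensorProduct

namespace Groth.FibreSTD

/-- No nonzero element is killed by all of the `g j`. -/
def Faith {T : Type u} [CommRing T] {ι : Type*} (g : ι → T) : Prop :=
  ∀ t : T, (∀ j, g j * t = 0) → t = 0

theorem Faith.of_ringEquiv {T T' : Type u} [CommRing T] [CommRing T'] {ι : Type*} {g : ι → T} {g' : ι → T'}
    (h : Faith g) (e : T ≃+* T') (he : ∀ j, e (g j) = g' j) : Faith g' := fun t ht => by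
  refine e.symm.injective ((h _ fun j => ?_).trans (map_zero _).symm)
  apply e.injective
  rw [map_mul, e.apply_symm_apply, map_zero, he, ht]

section Domain

variable {R A : Type u} [CommRing R] [CommRing A] [Algebra R A] {r : ℕ} (g : Fin r → A)

/-- `a ↦ (g j * a)_j`. -/
noncomputable def mulVec : A →ₗ[R] (Fin r → A) := (LinearMap.toSpanSingleton A (Fin r → A) g).restrictScalars R

theorem mulVec_apply (a : A) : mulVec (R := R) g a = a • g := rfl

theorem injective_of_faith {L : Type u} [CommRing L] [Algebra R L]
    (h : Faith fun j => ((1 : L) ⊗ₜ[R] g j : L ⊗[R] A)) : Function.Injective ((mulVec (R := R) g).lTensor L) := by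
  rw [injective_iff_map_eq_zero]
  intro t ht
  refine h t fun j => ?_
  have e : ∀ t : L ⊗[R] A, (LinearMap.proj (R := R) (φ := fun _ : Fin r => A) j).lTensor L ((mulVec g).lTensor L t) =
      ((1 : L) ⊗ₜ[R] g j) * t := by
    intro t
    induction t using TensorProduct.induction_on with
    | zero => simp
    | tmul l a => simp [mulVec_apply, mul_comm]
    | add x y hx hy => simp only [map_add, mul_add, hx, hy]
  rw [← e, ht, map_zero]

theorem faith_of_injective {L : Type u} [CommRing L] [Algebra R L]
    (h : Function.Injective ((mulVec (R := R) g).lTensor L)) :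
    Faith fun j => ((1 : L) ⊗ₜ[R] g j : L ⊗[R] A) := by
  intro t ht
  apply h
  rw [map_zero]
  apply (TensorProduct.piRight R R L (fun _ : Fin r => A)).injective
  rw [map_zero]
  funext j
  refine Eq.trans ?_ (ht j)
  clear ht
  induction t using TensorProduct.induction_on with
  | zero => simp
  | tmul l a => simp [mulVec_apply, mul_comm]
  | add x y hx hy => simp only [map_add, Pi.add_apply, mul_add, hx, hy]

/-- Compatibility with a stage. -/
theorem cancel_nat {S : Type u} [CommRing S] [Algebra R S] {M : Type u} [CommRing M] [Algebra R M] [Algebra S M]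
    [IsScalarTower R S M] (z : M ⊗[S] (S ⊗[R] A)) :
    (mulVec (R := R) g).lTensor M (TensorProduct.AlgebraTensorModule.cancelBaseChange R S M M A z) =
      TensorProduct.AlgebraTensorModule.cancelBaseChange R S M M (Fin r → A)
        (((mulVec (R := R) g).baseChange S).lTensor M z) := by
  induction z using TensorProduct.induction_on with
  | zero => simp
  | add x y hx hy => simp only [map_add, hx, hy]
  | tmul m w =>
    induction w using TensorProduct.induction_on with
    | zero => simp
    | add x y hx hy => simp only [tmul_add, map_add, hx, hy]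
    | tmul s a => simp

/-- An injection with projective cokernel stays injective after any tensor. -/
theorem injective_lTensor_of_exact {S : Type u} [CommRing S] {M N C : Type u} [AddCommGroup M] [Module S M]
    [AddCommGroup N] [Module S N] [AddCommGroup C] [Module S C] [Module.Projective S C]
    (f : M →ₗ[S] N) (q : N →ₗ[S] C) (hf : Function.Injective f) (hq : Function.Surjective q)
    (hex : Function.Exact f q) (L : Type u) [AddCommGroup L] [Module S L] :
    Function.Injective (f.lTensor L) := by
  obtain ⟨sec, hsec⟩ := Module.projective_lifting_property q LinearMap.id hq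
  have hmem : ∀ x, ((LinearMap.id : N →ₗ[S] N) - sec ∘ₗ q) x ∈ LinearMap.range f := fun x => (hex _).1 (by
    rw [LinearMap.sub_apply, map_sub, LinearMap.comp_apply, LinearMap.id_apply,
      show q (sec (q x)) = q x from LinearMap.congr_fun hsec (q x), sub_self])
  let ret : N →ₗ[S] M := (LinearEquiv.ofInjective f hf).symm.toLinearMap ∘ₗ
    LinearMap.codRestrict (LinearMap.range f) (LinearMap.id - sec ∘ₗ q) hmem
  have hret : ret ∘ₗ f = LinearMap.id := by
    refine LinearMap.ext fun z => ?_
    apply (LinearEquiv.ofInjective f hf).injective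
    simp [ret, hex.apply_apply_eq_zero z, Subtype.ext_iff]
  refine Function.LeftInverse.injective (g := ret.lTensor L) fun z => ?_
  rw [← LinearMap.comp_apply, ← LinearMap.lTensor_comp, hret, LinearMap.lTensor_id, LinearMap.id_apply]

/-- The stage map is injective if it is so after base change to a field containing the stage. -/
theorem injective_baseChange_stage {S : Type u} [CommRing S] [Algebra R S] [Module.Flat S (S ⊗[R] A)]
    {K : Type u} [CommRing K] [Algebra R K] [Algebra S K] [IsScalarTower R S K]
    (hSK : Function.Injective (algebraMap S K))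
    (h : Function.Injective ((mulVec (R := R) g).lTensor K)) :
    Function.Injective ((mulVec (R := R) g).baseChange S) := by
  rw [injective_iff_map_eq_zero]
  intro z hz
  have h1 : (1 : K) ⊗ₜ[S] z = 0 := by
    apply (TensorProduct.AlgebraTensorModule.cancelBaseChange R S K K A).injective
    apply h
    rw [cancel_nat, LinearMap.lTensor_tmul, hz, tmul_zero, map_zero, map_zero, map_zero]
  have h2 := Module.Flat.rTensor_preserves_injective_linearMap (M := S ⊗[R] A) (Algebra.linearMap S K) hSK
  have h3 : (1 : S) ⊗ₜ[S] z = (0 : S ⊗[S] (S ⊗[R] A)) := h2 (by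
    rw [map_zero, LinearMap.rTensor_tmul, Algebra.linearMap_apply, map_one, h1])
  simpa using congrArg (TensorProduct.lid S (S ⊗[R] A)) h3

theorem injective_lTensor_stage {S : Type u} [CommRing S] [Algebra R S] {C : Type u} [AddCommGroup C] [Module R C]
    [Module.Projective S (S ⊗[R] C)] (q : (Fin r → A) →ₗ[R] C) (hq : Function.Surjective q)
    (hex : Function.Exact (mulVec (R := R) g) q) (hinj : Function.Injective ((mulVec (R := R) g).baseChange S))
    (L : Type u) [CommRing L] [Algebra R L] [Algebra S L] [IsScalarTower R S L] :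
    Function.Injective ((mulVec (R := R) g).lTensor L) := by
  have hLinj := injective_lTensor_of_exact ((mulVec (R := R) g).baseChange S) (q.baseChange S) hinj
    (LinearMap.lTensor_surjective S hq) (lTensor_exact S hex hq) L
  intro x y hxy
  obtain ⟨x, rfl⟩ := (TensorProduct.AlgebraTensorModule.cancelBaseChange R S L L A).surjective x
  obtain ⟨y, rfl⟩ := (TensorProduct.AlgebraTensorModule.cancelBaseChange R S L L A).surjective y
  rw [cancel_nat, cancel_nat] at hxy
  exact congrArg _ (hLinj ((TensorProduct.AlgebraTensorModule.cancelBaseChange R S L L _).injective hxy))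

theorem exists_algebra_away {f : R} (M : Type u) [Field M] [Algebra R M] (hM : algebraMap R M f ≠ 0) :
    ∃ _ : Algebra (Localization.Away f) M, IsScalarTower R (Localization.Away f) M := by
  let φ : Localization.Away f →+* M := IsLocalization.Away.lift f (g := algebraMap R M) hM.isUnit
  exact ⟨φ.toAlgebra, @IsScalarTower.of_algebraMap_eq R (Localization.Away f) M _ _ _ _ φ.toAlgebra _ fun x =>
      (IsLocalization.Away.lift_eq f (g := algebraMap R M) hM.isUnit x).symm⟩

theorem injective_algebraMap_away {f : R} {K : Type u} [CommRing K] [Algebra R K]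
    [Algebra (Localization.Away f) K] [IsScalarTower R (Localization.Away f) K]
    (hK : Function.Injective (algebraMap R K)) : Function.Injective (algebraMap (Localization.Away f) K) := by
  rw [injective_iff_map_eq_zero]
  intro s hs
  obtain ⟨⟨a, d⟩, hd⟩ := IsLocalization.surj (Submonoid.powers f) s
  have h0 := congrArg (algebraMap (Localization.Away f) K) hd
  rw [map_mul, hs, zero_mul, ← IsScalarTower.algebraMap_apply] at h0
  have ha : a = 0 := hK (h0.symm.trans (map_zero _).symm)
  rw [ha, map_zero] at hd
  exact (IsUnit.mul_left_eq_zero (IsLocalization.map_units (Localization.Away f) d)).1 hd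

/-- The domain case. -/
theorem exists_specialize_domain [IsDomain R] [Algebra.FiniteType R A] {K : Type u} [Field K] [Algebra R K]
    (hK : Function.Injective (algebraMap R K)) (h : Faith fun j => ((1 : K) ⊗ₜ[R] g j : K ⊗[R] A)) :
    ∃ f : R, f ≠ 0 ∧ ∀ (L : Type u) [Field L] [Algebra R L], algebraMap R L f ≠ 0 →
      Faith fun j => ((1 : L) ⊗ₜ[R] g j : L ⊗[R] A) := by
  let N : Submodule A (Fin r → A) := LinearMap.range (LinearMap.toSpanSingleton A (Fin r → A) g)
  let q : (Fin r → A) →ₗ[R] (Fin r → A) ⧸ N := N.mkQ.restrictScalars R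
  have hqs : Function.Surjective q := fun c => (Submodule.mkQ_surjective N) c
  have hex : Function.Exact (mulVec (R := R) g) q := fun x => by
    show N.mkQ x = 0 ↔ _
    rw [Submodule.mkQ_apply, Submodule.Quotient.mk_eq_zero]
    rfl
  obtain ⟨f₁, hf₁, hA, -⟩ := (Groth.GenericFree.gf_of_finiteType A A (R := R)).exists_free
  obtain ⟨f₂, hf₂, hC, -⟩ :=
    (Groth.GenericFree.gf_of_finiteType A ((Fin r → A) ⧸ N) (R := R)).exists_free
  have hf : f₁ * f₂ ≠ 0 := mul_ne_zero hf₁ hf₂
  refine ⟨f₁ * f₂, hf, fun L _ _ hL => faith_of_injective g ?_⟩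
  have := hA _ hf ⟨f₂, rfl⟩
  have : Module.Free (Localization.Away (f₁ * f₂)) (Localization.Away (f₁ * f₂) ⊗[R] A) :=
    Module.Free.of_equiv (LocalizedModule.equivTensorProduct (Submonoid.powers (f₁ * f₂)) A)
  have := hC _ hf ⟨f₁, mul_comm _ _⟩
  have : Module.Free (Localization.Away (f₁ * f₂)) (Localization.Away (f₁ * f₂) ⊗[R] ((Fin r → A) ⧸ N)) :=
    Module.Free.of_equiv (LocalizedModule.equivTensorProduct (Submonoid.powers (f₁ * f₂)) _)
  obtain ⟨_, _⟩ := exists_algebra_away L hL
  obtain ⟨_, _⟩ := exists_algebra_away K ((map_ne_zero_iff _ hK).2 hf)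
  have hi : Function.Injective ((mulVec (R := R) g).baseChange (Localization.Away (f₁ * f₂))) :=
    injective_baseChange_stage (R := R) (S := Localization.Away (f₁ * f₂)) (K := K) g
      (injective_algebraMap_away hK) (injective_of_faith g h)
  exact injective_lTensor_stage (R := R) (S := Localization.Away (f₁ * f₂)) (C := (Fin r → A) ⧸ N) g q
    hqs hex hi L

end Domain

/-- Over a ring with prime nilradical. -/
theorem exists_specialize {R A : Type u} [CommRing R] [CommRing A] [Algebra R A] [Algebra.FiniteType R A]
    [(nilradical R).IsPrime] {r : ℕ} (g : Fin r → A) {K : Type u} [Field K] [Algebra R K]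
    (hK : RingHom.ker (algebraMap R K) = nilradical R)
    (h : Faith fun j => (g j ⊗ₜ[R] (1 : K) : A ⊗[R] K)) :
    ∃ f : R ⧸ nilradical R, f ≠ 0 ∧ ∀ (L : Type u) [Field L] [Algebra R L] (φ : R ⧸ nilradical R →+* L),
      φ.comp (Ideal.Quotient.mk _) = algebraMap R L → φ f ≠ 0 →
      Faith fun j => (g j ⊗ₜ[R] (1 : L) : A ⊗[R] L) := by
  let Q := R ⧸ nilradical R
  let A' := Q ⊗[R] A
  let g' : Fin r → A' := fun j => (1 : Q) ⊗ₜ[R] g j
  let φK : Q →+* K := Ideal.Quotient.lift _ (algebraMap R K) fun x hx => by rwa [← RingHom.mem_ker, hK]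
  let : Algebra Q K := φK.toAlgebra
  have : IsScalarTower R Q K := IsScalarTower.of_algebraMap_eq fun _ => rfl
  have tr : ∀ (L : Type u) [Field L] [Algebra R L] [Algebra Q L] [IsScalarTower R Q L],
      Faith (fun j => (g j ⊗ₜ[R] (1 : L) : A ⊗[R] L)) ↔ Faith fun j => ((1 : L) ⊗ₜ[Q] g' j : L ⊗[Q] A') := by
    intro L _ _ _ _
    let e : A ⊗[R] L ≃+* L ⊗[Q] A' :=
      (Algebra.TensorProduct.comm R A L).toRingEquiv.trans
        (Algebra.TensorProduct.cancelBaseChange R Q L L A).symm.toRingEquiv
    have he : ∀ j, e (g j ⊗ₜ[R] (1 : L)) = (1 : L) ⊗ₜ[Q] g' j := fun j => by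
      simp [e, g']
    exact ⟨fun hh => hh.of_ringEquiv e he, fun hh => hh.of_ringEquiv e.symm fun j => by
      rw [← he, e.symm_apply_apply]⟩
  have : Algebra.FiniteType Q A' := inferInstance
  have hinj : Function.Injective (algebraMap Q K) :=
    RingHom.lift_injective_of_ker_le_ideal _ _ hK.le
  obtain ⟨f, hf, hL⟩ := exists_specialize_domain g' hinj ((tr K).1 h)
  refine ⟨f, hf, fun L _ _ φ hφ hφf => ?_⟩
  let : Algebra Q L := φ.toAlgebra
  have : IsScalarTower R Q L := IsScalarTower.of_algebraMap_eq fun x => (RingHom.congr_fun hφ x).symm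
  exact (tr L).2 (hL L hφf)

end Groth.FibreSTD
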