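import Groth.Agent.FibreSTD.Algebra
import Groth.Agent.SchDom.Charts

/-!
Scheme-theoretic density of an open and the algebraic condition on charts.
-/

set_option autoImplicit false
universe u

open CategoryTheory CategoryTheory.Limits AlgebraicGeometry TopologicalSpace

namespace Groth.FibreSTD

variable {P : Scheme.{u}} (U : P.Opens)

/-- The inclusion as a one-member family. -/
noncomputable abbrev fam : ∀ _ : PUnit.{u + 1}, (U : Scheme.{u}) ⟶ P := fun _ => U.ι

theorem sd_of_std [IsSchemeTheoreticallyDominant U.ι] [QuasiCompact U.ι] : Groth.SchDom.SD (fam U) := by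
  intro V t ht
  refine Groth.SchDom.section_eq_zero_of_charts t fun x hx => ?_
  obtain ⟨Q, hQ, hxQ, hQV⟩ := exists_isAffineOpen_mem_and_subset hx
  have hQV' : Q ≤ V := hQV
  refine ⟨Q, Q.ι, inferInstance, ⟨⟨x, hxQ⟩, rfl⟩, ?_⟩
  have h0 : P.presheaf.map (homOfLE hQV').op t = 0 := by
    have hmem : P.presheaf.map (homOfLE hQV').op t ∈ (Scheme.Hom.ker U.ι).ideal ⟨Q, hQ⟩ := by
      rw [Scheme.Hom.ker_apply, RingHom.mem_ker]
      show U.ι.app Q (P.presheaf.map (homOfLE hQV').op t) = 0
      rw [Groth.SchDom.app_res, show U.ι.app V t = 0 from ht ⟨⟩, map_zero]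
    rwa [Scheme.Hom.ker_eq_bot U.ι, Scheme.IdealSheafData.ideal_bot, Pi.bot_apply, Ideal.mem_bot] at hmem
  rw [Scheme.Opens.ι_app]
  have hh : Q.ι ''ᵁ (Q.ι ⁻¹ᵁ V) ≤ Q := Scheme.Opens.ι_image_le _ _
  have := congrArg (P.presheaf.map (homOfLE hh).op) h0
  rw [map_zero, Groth.SchDom.res_res] at this
  exact this

theorem std_of_sd (h : Groth.SchDom.SD (fam U)) : IsSchemeTheoreticallyDominant U.ι := by
  refine ⟨le_bot_iff.mp fun V s hs => ?_⟩
  show s ∈ (⊥ : Ideal _)
  rw [Ideal.mem_bot]
  exact h V.1 s fun _ => RingHom.mem_ker.1 (U.ι.ideal_ker_le V hs)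

variable {T : CommRingCat.{u}} (c : Spec T ⟶ P) [IsOpenImmersion c] {ι : Type u} (g : ι → T)

/-- The map `D(g j) → U`. -/
noncomputable def awayLift (hle : ∀ j, (PrimeSpectrum.basicOpen (g j) : Set (PrimeSpectrum T)) ⊆ c.base ⁻¹' U)
    (j : ι) : Spec (CommRingCat.of (Localization.Away (g j))) ⟶ U :=
  IsOpenImmersion.lift U.ι (Spec.map (CommRingCat.ofHom (algebraMap T (Localization.Away (g j)))) ≫ c) (by
    rw [Scheme.Opens.range_ι]
    rintro _ ⟨z, rfl⟩
    refine hle j ?_
    rw [← PrimeSpectrum.localization_away_comap_range (Localization.Away (g j)) (g j)]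
    exact ⟨z, rfl⟩)

omit [IsOpenImmersion c] in
theorem awayLift_fac (hle) (j : ι) : awayLift U c g hle j ≫ U.ι =
    Spec.map (CommRingCat.ofHom (algebraMap T (Localization.Away (g j)))) ≫ c :=
  IsOpenImmersion.lift_fac _ _ _

theorem isOpenImmersion_awayLift (hle) (j : ι) : IsOpenImmersion (awayLift U c g hle j) := by
  have : IsOpenImmersion (Spec.map (CommRingCat.ofHom (algebraMap T (Localization.Away (g j))))) :=
    IsOpenImmersion.of_isLocalization (S := Localization.Away (g j)) (g j)
  have : IsOpenImmersion (awayLift U c g hle j ≫ U.ι) := by rw [awayLift_fac]; infer_instance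
  exact IsOpenImmersion.of_comp _ U.ι

theorem faith_of_sd (h : Groth.SchDom.SD (fam U))
    (hle : ∀ j, (PrimeSpectrum.basicOpen (g j) : Set (PrimeSpectrum T)) ⊆ c.base ⁻¹' U)
    (hge : ∀ x : Spec T, c x ∈ U → ∃ j, x ∈ PrimeSpectrum.basicOpen (g j)) : Faith g := by
  intro t ht
  have hd := Groth.SchDom.dom_of_sd_spec h c (J := ι) (fun _ => PUnit.unit)
    (C := fun j => CommRingCat.of (Localization.Away (g j)))
    (fun j => CommRingCat.ofHom (algebraMap T (Localization.Away (g j))))
    (fun j => awayLift U c g hle j) (fun j => isOpenImmersion_awayLift U c g hle j)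
    (fun j => awayLift_fac U c g hle j) (by
      rintro ⟨⟩ z ⟨x, hx⟩
      obtain ⟨j, hj⟩ := hge x (by rw [hx]; exact z.2)
      refine ⟨j, rfl, ?_⟩
      simp only [eqToHom_refl, Category.comp_id]
      have hj' : x ∈ Set.range (PrimeSpectrum.comap (algebraMap T (Localization.Away (g j)))) := by
        rw [PrimeSpectrum.localization_away_comap_range (Localization.Away (g j)) (g j)]; exact hj
      obtain ⟨w, hw⟩ := hj'
      refine ⟨w, U.ι.isOpenEmbedding.injective ?_⟩
      rw [← Scheme.Hom.comp_apply, awayLift_fac, Scheme.Hom.comp_apply]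
      exact (congrArg c hw).trans hx)
  obtain ⟨N, hN⟩ := hd 1 t fun j => ⟨0, by
    show algebraMap T (Localization.Away (g j)) (1 ^ 0 * t) = 0
    rw [one_pow, one_mul]
    exact (IsLocalization.map_eq_zero_iff (Submonoid.powers (g j)) _ _).2 ⟨⟨g j, Submonoid.mem_powers _⟩, ht j⟩⟩
  simpa using hN

/-- A finite faithful family gives schematic density on the chart. -/
theorem dom_of_faith [Finite ι] (h : Faith g) :
    Groth.SchDom.Dom fun j => algebraMap T (Localization.Away (g j)) := by
  intro a b hb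
  choose n hn using hb
  have h' : ∀ j, ∃ m : ℕ, g j ^ m * (a ^ n j * b) = 0 := fun j => by
    obtain ⟨⟨_, m, rfl⟩, hm⟩ := (IsLocalization.map_eq_zero_iff (Submonoid.powers (g j)) _ _).1 (hn j)
    exact ⟨m, hm⟩
  choose m hm using h'
  cases nonempty_fintype ι
  let M := Finset.univ.sup m
  let N := Finset.univ.sup n
  have key : ∀ j, g j ^ M * (a ^ N * b) = 0 := fun j => by
    obtain ⟨d, hd⟩ := Nat.exists_eq_add_of_le (Finset.le_sup (f := m) (Finset.mem_univ j))
    obtain ⟨e, he⟩ := Nat.exists_eq_add_of_le (Finset.le_sup (f := n) (Finset.mem_univ j))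
    show g j ^ Finset.univ.sup m * (a ^ Finset.univ.sup n * b) = 0
    rw [hd, he, pow_add, pow_add]
    linear_combination (g j ^ d * a ^ e) * hm j
  refine ⟨N, ?_⟩
  -- descend from powers of the family to the family
  suffices H : ∀ M : ℕ, ∀ t, (∀ j, g j ^ M * t = 0) → t = 0 from H M _ key
  classical
  have key2 : ∀ (k : ℕ) (e : ι → ℕ) (t : T), ∑ j, e j = k → (∀ j, g j ^ e j * t = 0) → t = 0 := by
    intro k
    induction k using Nat.strong_induction_on with
    | _ k ih =>
      intro e t hk ht
      refine h t fun i => ?_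
      rcases Nat.eq_zero_or_pos (e i) with h0 | hpos
      · have := ht i
        rw [h0, pow_zero, one_mul] at this
        rw [this, mul_zero]
      refine ih _ ?_ (Function.update e i (e i - 1)) (g i * t) rfl fun j => ?_
      · rw [← hk]
        refine Finset.sum_lt_sum (fun j _ => ?_) ⟨i, Finset.mem_univ i, ?_⟩
        · rcases eq_or_ne j i with rfl | hji
          · rw [Function.update_self]; exact Nat.sub_le _ _
          · rw [Function.update_of_ne hji]
        · rw [Function.update_self]; omega
      · rcases eq_or_ne j i with rfl | hji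
        · rw [Function.update_self, ← mul_assoc, ← pow_succ, Nat.sub_add_cancel hpos]; exact ht j
        · rw [Function.update_of_ne hji]; linear_combination g i * ht j
  exact fun M t ht => key2 _ (fun _ => M) t rfl ht

end Groth.FibreSTD
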